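import Cfsg.Agent.Lib.HeUniq.Fus.Defs

/-! The rows and square root counts of the representatives, evaluated (part A). -/

set_option autoImplicit false
set_option maxRecDepth 100000
set_option Elab.async false

namespace Cfsg.Agent.HeUniq.Fus

theorem class0_ok : classOK 0 = true := by decide +kernel

theorem class1_ok : classOK 1 = true := by decide +kernel

theorem class2_ok : classOK 2 = true := by decide +kernel

theorem class3_ok : classOK 3 = true := by decide +kernel

end Cfsg.Agent.HeUniq.Fus
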