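import Cfsg.Agent.Lib.HeUniq.Fus.Defs

/-! The rows and square root counts of the representatives, evaluated (part B). -/

set_option autoImplicit false
set_option maxRecDepth 100000
set_option Elab.async false

namespace Cfsg.Agent.HeUniq.Fus

theorem class4_ok : classOK 4 = true := by decide +kernel

theorem class6_ok : classOK 6 = true := by decide +kernel

theorem class7_ok : classOK 7 = true := by decide +kernel

end Cfsg.Agent.HeUniq.Fus
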