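import Cfsg.Agent.Lib.HeUniq.Fus.Classes
import Cfsg.Agent.Lib.HeUniq.Fus.ClassA
import Cfsg.Agent.Lib.HeUniq.Fus.ClassB
import Mathlib.GroupTheory.OrderOfElement

/-! The seven fusion patterns that the counts allow. -/

set_option autoImplicit false

namespace Cfsg.Agent.HeUniq.Fus

open Cfsg.Agent.HeUniq.Model

variable {G : Type*} [Group G] {t : G} (F : Frame G t)

theorem class_facts {k : ℕ} (hk : k < 8) (h5 : k ≠ 5) :
    rowsOf k = rowsLit k ∧ sqZOf k = sqZ k ∧ sqROf k = sqR k := by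
  have h : classOK k = true := by
    interval_cases k
    exacts [class0_ok, class1_ok, class2_ok, class3_ok, class4_ok, absurd rfl h5, class6_ok, class7_ok]
  simp only [classOK, Bool.and_eq_true, beq_iff_eq, Nat.beq_eq] at h
  exact ⟨h.1.1, h.1.2, h.2⟩

include F in
theorem sq_t : t * t = 1 := by
  rw [← F.fz, ← F.mul inC_z inC_z, show mC zC zC = oneC by decide +kernel, F.one]

include F in
theorem t_ne_one : t ≠ 1 := fun h =>
  absurd (F.inj inC_z inC_one (F.fz.trans (h.trans F.one.symm))) (by decide +kernel)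

theorem inH_iff {k i : ℕ} (hk : k < 8) (hi : i < 21504) :
    inH k i = true ↔ F.f (cd i) * F.f (repC k) = F.f (repC k) * F.f (cd i) := by
  rw [inH, Nat.beq_eq, ← F.mul (inC_cd hi) (rep_cd hk).1, ← F.mul (rep_cd hk).1 (inC_cd hi)]
  exact ⟨congrArg F.f, F.inj ((inC_cd hi).mul (rep_cd hk).1) ((rep_cd hk).1.mul (inC_cd hi))⟩

theorem swap {k : ℕ} (hk : k < 8) (h5 : k ≠ 5) (hm : (mask F).testBit k = true) :
    ∃ d < 8, d ≠ 5 ∧ (mask F).testBit d = true ∧
      ∃ g : G, g * F.f (repC k) * g⁻¹ = t ∧ g * t * g⁻¹ = F.f (repC d) := by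
  obtain ⟨g, hg⟩ := isConj_iff.1 ((testBit_mask F hk).1 hm).symm
  have hut : F.f (repC k) * t = t * F.f (repC k) := F.cent (rep_cd hk).1
  have hut' : F.f (repC k) ≠ t := fun h => h5 (by
    have := F.inj (rep_cd hk).1 inC_z (h.trans F.fz.symm)
    rw [← (rep_cd hk).2, this, ← repz, (rep_cd (show 5 < 8 by norm_num)).2])
  have hvt : g * t * g⁻¹ * t = t * (g * t * g⁻¹) := by
    have e : g * t * g⁻¹ * (g * F.f (repC k) * g⁻¹) = g * F.f (repC k) * g⁻¹ * (g * t * g⁻¹) := by
      rw [conj_mul, conj_mul, hut]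
    rwa [hg] at e
  obtain ⟨b, hb, hbv⟩ := F.surj _ hvt
  have hvX : IsConj t (F.f b) := hbv ▸ isConj_iff.2 ⟨g, rfl⟩
  have hbc : cls b < 8 := by
    refine cls_lt hb (F.inj (hb.mul hb) inC_one ?_) fun e => ?_
    · rw [F.mul hb hb, hbv, conj_mul, sq_t F, F.one, mul_one, mul_inv_cancel]
    · rw [e, F.one] at hbv
      exact t_ne_one F (conj_eq_one_iff.1 hbv.symm)
  have hb5 : cls b ≠ 5 := fun e => by
    obtain ⟨c, hc, hcb⟩ := to_rep F hbc
    rw [e, repz, F.fz] at hcb
    have h1 : F.f b = t := by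
      have h2 : c⁻¹ * t * c = F.f b :=
        (congrArg (fun y => c⁻¹ * y * c) hcb.symm).trans (by group)
      refine h2.symm.trans ?_
      rw [mul_assoc, ← hc, inv_mul_cancel_left]
    exact hut' (by
      have : g * F.f (repC k) * g⁻¹ = g * t * g⁻¹ := by rw [hg, ← hbv, h1]
      exact mul_left_cancel (mul_right_cancel this))
  obtain ⟨c, hc, hcb⟩ := to_rep F hbc
  refine ⟨cls b, hbc, hb5, (conj_iff F hbc).1 hvX, c * g, ?_, ?_⟩
  · rw [mul_inv_rev, show c * g * F.f (repC k) * (g⁻¹ * c⁻¹) = c * (g * F.f (repC k) * g⁻¹) * c⁻¹ by group, hg,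
      hc, mul_assoc, mul_inv_cancel, mul_one]
  · rw [mul_inv_rev, show c * g * t * (g⁻¹ * c⁻¹) = c * (g * t * g⁻¹) * c⁻¹ by group, ← hbv, hcb]

/-- a bijection of two centralisers -/
theorem card_transfer {u v g : G} (hu : g * u * g⁻¹ = t) (hv : g * t * g⁻¹ = v) (Q : G → Prop) :
    Nat.card {x : G // x * t = t * x ∧ x * u = u * x ∧ Q (g * x * g⁻¹)} =
      Nat.card {y : G // y * t = t * y ∧ y * v = v * y ∧ Q y} := by
  have hcomm : ∀ x a : G, (g * x * g⁻¹) * (g * a * g⁻¹) = (g * a * g⁻¹) * (g * x * g⁻¹) ↔ x * a = a * x := by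
    intro x a
    rw [conj_mul, conj_mul, mul_left_inj, mul_right_inj]
  refine Nat.card_congr ((MulAut.conj g).toEquiv.subtypeEquiv fun x => ?_)
  show _ ↔ g * x * g⁻¹ * t = t * (g * x * g⁻¹) ∧ g * x * g⁻¹ * v = v * (g * x * g⁻¹) ∧ Q (g * x * g⁻¹)
  rw [← hcomm x u, ← hcomm x t, hu, hv]
  tauto

theorem sq_counts {k d : ℕ} (hk : k < 8) (hd : d < 8) (hk5 : k ≠ 5) (hd5 : d ≠ 5) {g : G}
    (hu : g * F.f (repC k) * g⁻¹ = t) (hv : g * t * g⁻¹ = F.f (repC d)) : sqR k = sqZ d ∧ sqZ k = sqR d := by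
  have hcomm : ∀ {k i : ℕ}, k < 8 → i < 21504 → (inH k i = true ↔
      F.f (cd i) * F.f (repC k) = F.f (repC k) * F.f (cd i)) := fun hk hi => inH_iff F hk hi
  have hsq : ∀ {i : ℕ}, i < 21504 → ∀ {a : ℕ}, InC a →
      (Nat.beq (mC (cd i) (cd i)) a = true ↔ F.f (cd i) * F.f (cd i) = F.f a) := by
    intro i hi a ha
    rw [Nat.beq_eq, ← F.mul (inC_cd hi) (inC_cd hi)]
    exact ⟨congrArg F.f, F.inj ((inC_cd hi).mul (inC_cd hi)) ha⟩
  have count : ∀ {k : ℕ}, k < 8 → ∀ {a : ℕ}, InC a →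
      Nat.card {x : G // x * t = t * x ∧ x * F.f (repC k) = F.f (repC k) * x ∧ x * x = F.f a} =
        cnt (fun i => inH k i && Nat.beq (mC (cd i) (cd i)) a) 21504 := fun {k} hk {a} ha =>
    card_code F _ _ fun i hi => by rw [Bool.and_eq_true, hcomm hk hi, hsq hi ha]
  constructor
  · rw [← (class_facts hk hk5).2.2, ← (class_facts hd hd5).2.1, sqROf, sqZOf, ← count hk (rep_cd hk).1,
      ← count hd inC_z, ← card_transfer hu hv fun y => y * y = F.f zC]
    refine Nat.card_congr (Equiv.subtypeEquivRight fun x => ?_)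
    rw [conj_mul, F.fz]
    exact and_congr_right fun _ => and_congr_right fun _ =>
      ⟨fun h => by rw [h, hu], fun h => mul_left_cancel (mul_right_cancel (h.trans hu.symm))⟩
  · rw [← (class_facts hk hk5).2.1, ← (class_facts hd hd5).2.2, sqROf, sqZOf, ← count hk inC_z,
      ← count hd (rep_cd hd).1, ← card_transfer hu hv fun y => y * y = F.f (repC d)]
    refine Nat.card_congr (Equiv.subtypeEquivRight fun x => ?_)
    rw [conj_mul, F.fz]
    exact and_congr_right fun _ => and_congr_right fun _ =>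
      ⟨fun h => by rw [h, hv], fun h => mul_left_cancel (mul_right_cancel (h.trans hv.symm))⟩

/-- the key of an involution of a centraliser -/
noncomputable def keyG (t a b x : G) : ℕ :=
  27 * memG t x + 9 * memG t (x * a) + 3 * memG t (x * b) + memG t (x * a * b)

theorem key_counts {k d : ℕ} (hk : k < 8) (hd : d < 8) (hk5 : k ≠ 5) (hd5 : d ≠ 5) {g : G}
    (hu : g * F.f (repC k) * g⁻¹ = t) (hv : g * t * g⁻¹ = F.f (repC d)) (key : ℕ) :
    (rowsLit k).countP (fun r => Nat.beq (keyW (mask F) r) key) =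
      (rowsLit d).countP (fun r => Nat.beq (keyV (mask F) r) key) := by
  have hrow : ∀ {k i : ℕ}, k < 8 → i < 21504 →
      (keyV (mask F) (rowOf k i) = keyG t t (F.f (repC k)) (F.f (cd i)) ∧
        keyW (mask F) (rowOf k i) = keyG t (F.f (repC k)) t (F.f (cd i)) ∨ ¬ inH k i = true) := by
    intro k i hk hi
    by_cases hH : inH k i = true
    swap
    · exact Or.inr hH
    refine Or.inl ?_
    have hC := inC_cd hi
    have hR := (rep_cd hk).1
    have b1 := cls_le (cd i); have b2 := cls_le (mC (cd i) zC); have b3 := cls_le (mC (cd i) (repC k))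
    have b4 := cls_le (mC (mC (cd i) zC) (repC k))
    have e1 : rowOf k i / 729 = cls (cd i) := by unfold rowOf; omega
    have e2 : rowOf k i / 81 % 9 = cls (mC (cd i) zC) := by unfold rowOf; omega
    have e3 : rowOf k i / 9 % 9 = cls (mC (cd i) (repC k)) := by unfold rowOf; omega
    have e4 : rowOf k i % 9 = cls (mC (mC (cd i) zC) (repC k)) := by unfold rowOf; omega
    have hg1 : memG t (F.f (cd i) * t) = memV (mask F) (cls (mC (cd i) zC)) := by
      rw [← memG_code F (hC.mul inC_z), F.mul hC inC_z, F.fz]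
    have hg2 : memG t (F.f (cd i) * F.f (repC k)) = memV (mask F) (cls (mC (cd i) (repC k))) := by
      rw [← memG_code F (hC.mul hR), F.mul hC hR]
    have hg3 : memG t (F.f (cd i) * t * F.f (repC k)) = memV (mask F) (cls (mC (mC (cd i) zC) (repC k))) := by
      rw [← memG_code F ((hC.mul inC_z).mul hR), F.mul (hC.mul inC_z) hR, F.mul hC inC_z, F.fz]
    have hswap : F.f (cd i) * F.f (repC k) * t = F.f (cd i) * t * F.f (repC k) := by
      rw [mul_assoc, F.cent hR, ← mul_assoc]
    constructor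
    · simp only [keyV, keyG, e1, e2, e3, e4, memG_code F hC, hg1, hg2, hg3]
    · simp only [keyW, keyG, e1, e2, e3, e4, memG_code F hC, hg1, hg2, hswap, hg3]
  have count : ∀ {k : ℕ}, k < 8 → ∀ (a b : G) (f : ℕ → ℕ → ℕ),
      (∀ i < 21504, inH k i = true → f (mask F) (rowOf k i) = keyG t a b (F.f (cd i))) →
      (rowsOf k).countP (fun r => Nat.beq (f (mask F) r) key) =
        Nat.card {x : G // x * t = t * x ∧ x * F.f (repC k) = F.f (repC k) * x ∧
          ((x * x = 1 ∧ x ≠ 1) ∧ keyG t a b x = key)} := by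
    intro k hk a b f hf
    rw [rowsOf, countP_gather, card_code F _ (fun i => inH k i && Nat.blt (cls (cd i)) 8 &&
      Nat.beq (f (mask F) (rowOf k i)) key)]
    intro i hi
    have hC := inC_cd hi
    simp only [Bool.and_eq_true, Nat.blt_eq, Nat.beq_eq, and_assoc]
    constructor
    · rintro ⟨h1, h2, h3⟩
      obtain ⟨-, hs, hne, -⟩ := cls_spec h2
      refine ⟨(inH_iff F hk hi).1 h1, by rw [← F.mul hC hC, hs, F.one],
        fun e => hne (F.inj hC inC_one (e.trans F.one.symm)), ?_⟩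
      rw [← hf i hi h1]; exact h3
    · rintro ⟨h1, h2, h3, h4⟩
      have h1' := (inH_iff F hk hi).2 h1
      refine ⟨h1', cls_lt hC (F.inj (hC.mul hC) inC_one (by rw [F.mul hC hC, h2, F.one]))
        (fun e => h3 (by rw [e, F.one])), ?_⟩
      rw [hf i hi h1']; exact h4
  rw [← (class_facts hk hk5).1, ← (class_facts hd hd5).1,
    count hk (F.f (repC k)) t keyW (fun i hi h => ((hrow hk hi).resolve_right (not_not.2 h)).2),
    count hd t (F.f (repC d)) keyV (fun i hi h => ((hrow hd hi).resolve_right (not_not.2 h)).1),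
    ← card_transfer hu hv fun y => (y * y = 1 ∧ y ≠ 1) ∧ keyG t t (F.f (repC d)) y = key]
  refine Nat.card_congr (Equiv.subtypeEquivRight fun x => ?_)
  have hk' : keyG t t (F.f (repC d)) (g * x * g⁻¹) = keyG t (F.f (repC k)) t x := by
    have e1 : g * x * g⁻¹ * t = g * (x * F.f (repC k)) * g⁻¹ := by rw [← conj_mul, hu]
    have e2 : g * x * g⁻¹ * F.f (repC d) = g * (x * t) * g⁻¹ := by rw [← conj_mul, hv]
    have e3 : g * (x * F.f (repC k)) * g⁻¹ * F.f (repC d) = g * (x * F.f (repC k) * t) * g⁻¹ := by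
      rw [← hv, conj_mul]
    simp only [keyG, e1, e2, e3, memG_conj]
  simp only [hk', conj_mul, ne_eq, conj_eq_one_iff]

/-- only seven patterns of fusion are possible -/
theorem mask_cases : mask F ∈ ([32, 48, 96, 113, 115, 121, 123] : List ℕ) := by
  have h := allB_spec surv_ok _ (mask_lt F)
  simp only [survOK, mask_five F, Bool.not_true, Bool.false_or, Bool.or_eq_true, List.any_eq_true,
    Nat.beq_eq] at h
  rcases h with ⟨x, hx, rfl⟩ | hkill
  · exact hx
  · exfalso
    simp only [killOK, Bool.and_eq_true, Bool.not_eq_true'] at hkill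
    obtain ⟨⟨hc, hc5⟩, hall⟩ := hkill
    have hc8 : killAt (mask F) % 8 < 8 := Nat.mod_lt _ (by norm_num)
    have hc5' : killAt (mask F) % 8 ≠ 5 := fun e => by rw [e, Nat.beq_refl] at hc5; exact Bool.noConfusion hc5
    obtain ⟨d, hd, hd5, hdm, g, hu, hv⟩ := swap F hc8 hc5' hc
    have := allB_spec hall d hd
    obtain ⟨e1, e2⟩ := sq_counts F hc8 hd hc5' hd5 hu hv
    rw [hdm, e1, e2, key_counts F hc8 hd hc5' hd5 hu hv] at this
    simp [hd5] at this

/-- the pattern of the twisted frame -/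
theorem mask_twist : mask F.twist = 32 ∨ mask F.twist = 113 ∨ mask F.twist = 123 →
    mask F = mask F.twist := by
  intro h
  refine Nat.eq_of_testBit_eq fun k => ?_
  rcases Nat.lt_or_ge k 8 with hk | hk
  · have hth := allB_spec theta_classes k hk
    rw [Nat.beq_eq] at hth
    have hp : ([0, 3, 2, 1, 6, 5, 4, 7] : List ℕ).getD k 0 < 8 := by interval_cases k <;> decide
    have h1 : (mask F.twist).testBit k = (mask F).testBit (([0, 3, 2, 1, 6, 5, 4, 7] : List ℕ).getD k 0) := by
      have hc : cls (theta (repC k)) < 8 := by rw [hth]; exact hp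
      rw [Bool.eq_iff_iff, testBit_mask F.twist hk, ← hth]
      exact conj_iff F hc
    have hfix : ∀ m ∈ ([32, 113, 123] : List ℕ), ∀ j < 8,
        m.testBit (([0, 3, 2, 1, 6, 5, 4, 7] : List ℕ).getD j 0) = m.testBit j := by decide
    have hinv : ∀ j < 8, ([0, 3, 2, 1, 6, 5, 4, 7] : List ℕ).getD (([0, 3, 2, 1, 6, 5, 4, 7] : List ℕ).getD j 0) 0
        = j := by decide
    have hq : ([0, 3, 2, 1, 6, 5, 4, 7] : List ℕ).getD k 0 < 8 := hp
    have h2 : (mask F.twist).testBit (([0, 3, 2, 1, 6, 5, 4, 7] : List ℕ).getD k 0) = (mask F).testBit k := by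
      have hth' := allB_spec theta_classes _ hq
      rw [Nat.beq_eq, hinv k hk] at hth'
      have hc : cls (theta (repC (([0, 3, 2, 1, 6, 5, 4, 7] : List ℕ).getD k 0))) < 8 := by rw [hth']; exact hk
      rw [Bool.eq_iff_iff, testBit_mask F.twist hq]
      conv_rhs => rw [← hth']
      exact conj_iff F hc
    rw [← h2, hfix _ (by simp only [List.mem_cons, List.not_mem_nil, or_false]; tauto) k hk]
  · rw [Nat.testBit_lt_two_pow ((mask_lt F).trans_le (Nat.pow_le_pow_right two_pos hk)),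
      Nat.testBit_lt_two_pow ((mask_lt F.twist).trans_le (Nat.pow_le_pow_right two_pos hk))]

/-- the pattern of the twisted frame in general -/
theorem testBit_twist {k : ℕ} (hk : k < 8) :
    (mask F.twist).testBit k = (mask F).testBit (([0, 3, 2, 1, 6, 5, 4, 7] : List ℕ).getD k 0) := by
  have hth := allB_spec theta_classes k hk
  rw [Nat.beq_eq] at hth
  have hc : cls (theta (repC k)) < 8 := by
    rw [hth]; interval_cases k <;> decide
  rw [Bool.eq_iff_iff, testBit_mask F.twist hk, ← hth]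
  exact conj_iff F hc

end Cfsg.Agent.HeUniq.Fus
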