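import Cfsg.Agent.Lib.HeUniq.Fus.Defs

/-! The class checks, evaluated. -/

set_option autoImplicit false
set_option maxRecDepth 100000
set_option Elab.async false

namespace Cfsg.Agent.HeUniq.Fus

open Cfsg.Agent.HeUniq.Model

theorem ents_ok : allB entOK 575 = true := by decide +kernel

theorem reps_ok : allB repOK 8 = true := by decide +kernel

theorem repz : repC 5 = zC := by decide +kernel

theorem theta_classes : allB (fun k => Nat.beq (cls (theta (repC k))) ([0, 3, 2, 1, 6, 5, 4, 7].getD k 0)) 8 = true := by
  decide +kernel

theorem surv_ok : allB survOK 256 = true := by decide +kernel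

end Cfsg.Agent.HeUniq.Fus
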