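import Cfsg.Agent.Lib.HeUniq.Fus.Defs

/-! Completeness of the list of involutions and of the numbering, evaluated. -/

set_option autoImplicit false
set_option maxRecDepth 100000
set_option Elab.async false

namespace Cfsg.Agent.HeUniq.Fus

open Cfsg.Agent.HeUniq.Model

theorem compl0_ok : allB complOK 10752 = true := by decide +kernel

theorem compl1_ok : allB (fun i => complOK (10752 + i)) 10752 = true := by decide +kernel

theorem idx0_ok : allB idxOK 10752 = true := by decide +kernel

theorem idx1_ok : allB (fun i => idxOK (10752 + i)) 10752 = true := by decide +kernel

end Cfsg.Agent.HeUniq.Fus
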