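import Cfsg.Agent.Lib.HeUniq.Fus.Defs
import Mathlib.Data.Finset.Card
import Mathlib.Data.Fintype.Card

/-! The counting functions are cardinalities. -/

set_option autoImplicit false

namespace Cfsg.Agent.HeUniq.Fus

theorem cnt_succ (f : ℕ → Bool) (n : ℕ) : cnt f (n + 1) = if f n then cnt f n + 1 else cnt f n := by
  show (bif f n then Nat.succ (cnt f n) else cnt f n) = _
  cases f n <;> rfl

theorem cnt_eq_card (f : ℕ → Bool) : ∀ n : ℕ, cnt f n = ((Finset.range n).filter fun i => f i = true).card := by
  intro n
  induction n with
  | zero => rfl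
  | succ n ih =>
    rw [cnt_succ, Finset.range_add_one, Finset.filter_insert]
    cases h : f n
    · rw [if_neg (by simp), if_neg (by simp), ih]
    · rw [if_pos rfl, if_pos rfl, Finset.card_insert_of_notMem (by simp), ih]

theorem countP_gather (f q : ℕ → Bool) (g : ℕ → ℕ) : ∀ n : ℕ,
    (gather f g n).countP q = cnt (fun i => f i && q (g i)) n := by
  intro n
  induction n with
  | zero => rfl
  | succ n ih =>
    rw [cnt_succ, ← ih]
    show (bif f n then g n :: gather f g n else gather f g n).countP q = _
    cases f n
    · simp
    · cases h : q (g n) <;> simp [h]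

end Cfsg.Agent.HeUniq.Fus
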