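import Cfsg.Agent.Lib.HeUniq.Fus.Chk
import Cfsg.Agent.Lib.HeUniq.Fus.Chk2
import Cfsg.Agent.Lib.HeUniq.Fus.Lists
import Cfsg.Agent.Lib.HeUniq.Model.Frame
import Mathlib.Algebra.Group.Conj
import Mathlib.SetTheory.Cardinal.Finite

/-! The classes of involutions, read in a group with the given centraliser. -/

set_option autoImplicit false

namespace Cfsg.Agent.HeUniq.Fus

open Cfsg.Agent.HeUniq.Model

theorem rep_cd {k : ℕ} (hk : k < 8) : InC (repC k) ∧ cls (repC k) = k := by
  have := allB_spec reps_ok k hk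
  simp only [repOK, Bool.and_eq_true, Nat.beq_eq] at this
  refine ⟨?_, this.1⟩
  have hpos := this.1
  unfold cls at hpos
  cases h : Nat.beq (ivCode (pos (repC k))) (repC k)
  · rw [h] at hpos; simp at hpos; omega
  · rw [Nat.beq_eq] at h
    have hp : pos (repC k) < 575 := pos_lt _
    have he := allB_spec ents_ok _ hp
    simp only [entOK, Bool.and_eq_true, Nat.blt_eq] at he
    exact h ▸ inC_cd he.1.1.1.1
where
  pos_lt (a : ℕ) : pos a < 575 := by
    have step : ∀ (l : List ℕ) (lo : ℕ), lo < 575 →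
        l.foldl (fun lo s => bif Nat.blt (lo + s) 575 && Nat.ble (ivCode (lo + s)) a then lo + s else lo) lo
          < 575 := by
      intro l
      induction l with
      | nil => intro lo h; exact h
      | cons s l ih =>
        intro lo h
        rw [List.foldl_cons]
        refine ih _ ?_
        cases hb : Nat.blt (lo + s) 575
        · simpa using h
        · cases Nat.ble (ivCode (lo + s)) a
          · simpa using h
          · simpa using (Nat.blt_eq ▸ hb : lo + s < 575)
    exact step _ 0 (by norm_num)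

theorem cls_le (a : ℕ) : cls a ≤ 8 := by
  unfold cls
  cases Nat.beq (ivCode (pos a)) a
  · exact le_rfl
  · exact le_of_lt (Nat.mod_lt _ (by norm_num))

theorem cls_spec {a : ℕ} (h : cls a < 8) :
    InC a ∧ mC a a = oneC ∧ a ≠ oneC ∧ ∃ w, InC w ∧ mC w (repC (cls a)) = mC a w := by
  have hp : pos a < 575 := rep_cd.pos_lt a
  have he := allB_spec ents_ok _ hp
  simp only [entOK, Bool.and_eq_true, Nat.blt_eq, Nat.beq_eq, Bool.not_eq_true'] at he
  obtain ⟨⟨⟨⟨hi, hw⟩, hrel⟩, hsq⟩, hne⟩ := he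
  unfold cls at h ⊢
  cases hb : Nat.beq (ivCode (pos a)) a
  · rw [hb] at h; simp at h
  · rw [Nat.beq_eq] at hb
    rw [hb] at hrel hsq hne
    refine ⟨hb ▸ inC_cd hi, hsq, fun e => ?_, ivWit (pos a), inC_cd hw, by simpa using hrel⟩
    rw [e, Nat.beq_refl] at hne
    exact Bool.noConfusion hne

theorem cls_lt {a : ℕ} (ha : InC a) (h2 : mC a a = oneC) (hne : a ≠ oneC) : cls a < 8 := by
  obtain ⟨i, hi, rfl⟩ := ha
  have : complOK i = true := by
    rcases Nat.lt_or_ge i 10752 with h | h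
    · exact allB_spec compl0_ok i h
    · exact allB_chunk compl1_ok h (by omega)
  simp only [complOK, Bool.or_eq_true, Bool.not_eq_true', Nat.blt_eq] at this
  rcases this with (h | h) | h
  · rw [h2, Nat.beq_refl] at h; exact Bool.noConfusion h
  · exact absurd (Nat.eq_of_beq_eq_true h) hne
  · exact h

theorem idxC_cd {i : ℕ} (hi : i < 21504) : idxC (cd i) = i := by
  have : idxOK i = true := by
    rcases Nat.lt_or_ge i 10752 with h | h
    · exact allB_spec idx0_ok i h
    · exact allB_chunk idx1_ok h (by omega)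
  exact Nat.eq_of_beq_eq_true this

theorem cd_inj {i j : ℕ} (hi : i < 21504) (hj : j < 21504) (h : cd i = cd j) : i = j := by
  rw [← idxC_cd hi, h, idxC_cd hj]

variable {G : Type*} [Group G] {t : G} (F : Frame G t)

open scoped Classical in
/-- the classes inside the class of `t` -/
noncomputable def mask : ℕ := Nat.ofBits fun k : Fin 8 => decide (IsConj t (F.f (repC k)))

theorem mask_lt : mask F < 256 := Nat.ofBits_lt_two_pow _

theorem testBit_mask {k : ℕ} (hk : k < 8) : (mask F).testBit k = true ↔ IsConj t (F.f (repC k)) := by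
  classical
  rw [mask, Nat.testBit_ofBits_lt _ _ hk, decide_eq_true_iff]

theorem mask_five : (mask F).testBit 5 = true := by
  rw [testBit_mask F (by norm_num), repz, F.fz]

theorem to_rep {a : ℕ} (h : cls a < 8) :
    ∃ g : G, g * t = t * g ∧ g * F.f a * g⁻¹ = F.f (repC (cls a)) := by
  obtain ⟨ha, -, -, w, hw, hrel⟩ := cls_spec h
  refine ⟨(F.f w)⁻¹, ?_, ?_⟩
  · rw [inv_mul_eq_iff_eq_mul, ← mul_assoc, F.cent hw, mul_assoc, mul_inv_cancel, mul_one]
  · have := congrArg F.f hrel
    rw [F.mul hw (rep_cd h).1, F.mul ha hw] at this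
    rw [inv_inv, mul_assoc, ← this, inv_mul_cancel_left]

theorem conj_iff {a : ℕ} (h : cls a < 8) : IsConj t (F.f a) ↔ (mask F).testBit (cls a) = true := by
  obtain ⟨g, -, hg⟩ := to_rep F h
  rw [testBit_mask F h]
  have hc : IsConj (F.f a) (F.f (repC (cls a))) := isConj_iff.2 ⟨g, hg⟩
  exact ⟨fun h' => h'.trans hc, fun h' => h'.trans hc.symm⟩

open scoped Classical in
/-- membership of the class of `t`, as a number -/
noncomputable def memG (t x : G) : ℕ :=
  if x * x = 1 ∧ x ≠ 1 then (if IsConj t x then 1 else 0) else 2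

theorem memG_conj (g : G) (x : G) : memG t (g * x * g⁻¹) = memG t x := by
  have h1 : g * x * g⁻¹ * (g * x * g⁻¹) = g * (x * x) * g⁻¹ := by group
  have h2 : IsConj t (g * x * g⁻¹) ↔ IsConj t x :=
    ⟨fun h => h.trans (isConj_iff.2 ⟨g, rfl⟩).symm, fun h => h.trans (isConj_iff.2 ⟨g, rfl⟩)⟩
  have h3 : (g * x * g⁻¹ * (g * x * g⁻¹) = 1 ∧ g * x * g⁻¹ ≠ 1) ↔ (x * x = 1 ∧ x ≠ 1) := by
    rw [h1, ne_eq, conj_eq_one_iff, conj_eq_one_iff]
  unfold memG
  split_ifs <;> tauto

theorem memG_code {a : ℕ} (ha : InC a) : memG t (F.f a) = memV (mask F) (cls a) := by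
  unfold memG memV
  rcases Nat.lt_or_ge (cls a) 8 with h | h
  · obtain ⟨-, hsq, hne, -⟩ := cls_spec h
    rw [if_pos ⟨by rw [← F.mul ha ha, hsq, F.one], fun e => hne (F.inj ha inC_one (e.trans F.one.symm))⟩,
      show Nat.blt (cls a) 8 = true by rwa [Nat.blt_eq], cond_true]
    cases hb : (mask F).testBit (cls a)
    · rw [if_neg fun hc => by rw [(conj_iff F h).1 hc] at hb; exact Bool.noConfusion hb, cond_false]
    · rw [if_pos ((conj_iff F h).2 hb), cond_true]
  · rw [if_neg fun hh => absurd (cls_lt ha (F.inj (ha.mul ha) inC_one (by rw [F.mul ha ha, hh.1, F.one]))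
      (fun e => hh.2 (by rw [e, F.one]))) (not_lt.2 h),
      show Nat.blt (cls a) 8 = false from Bool.eq_false_iff.2 fun e => by rw [Nat.blt_eq] at e; omega,
      cond_false]

/-- elements of the centraliser with a property, counted on codes -/
theorem card_code (Q : G → Prop) (q : ℕ → Bool) (hq : ∀ i < 21504, q i = true ↔ Q (F.f (cd i))) :
    Nat.card {x : G // x * t = t * x ∧ Q x} = cnt q 21504 := by
  rw [cnt_eq_card, ← Nat.card_eq_finsetCard]
  symm
  refine Nat.card_congr (Equiv.ofBijective (fun i => ⟨F.f (cd i.1),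
    F.cent (inC_cd (Finset.mem_range.1 (Finset.mem_filter.1 i.2).1)),
    (hq _ (Finset.mem_range.1 (Finset.mem_filter.1 i.2).1)).1 (Finset.mem_filter.1 i.2).2⟩) ⟨?_, ?_⟩)
  · intro i j h
    have hi := Finset.mem_range.1 (Finset.mem_filter.1 i.2).1
    have hj := Finset.mem_range.1 (Finset.mem_filter.1 j.2).1
    exact Subtype.ext (cd_inj hi hj (F.inj (inC_cd hi) (inC_cd hj) (congrArg Subtype.val h)))
  · rintro ⟨x, hx, hQ⟩
    obtain ⟨a, ⟨i, hi, rfl⟩, rfl⟩ := F.surj x hx
    exact ⟨⟨i, Finset.mem_filter.2 ⟨Finset.mem_range.2 hi, (hq i hi).2 hQ⟩⟩, rfl⟩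

end Cfsg.Agent.HeUniq.Fus
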