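import Cfsg.Agent.Lib.HeUniq.Model.Code
import Cfsg.Agent.Lib.HeUniq.Fus.Data

/-! Classes of involutions of the centraliser and the counts that constrain their fusion. -/

set_option autoImplicit false
set_option maxRecDepth 100000

namespace Cfsg.Agent.HeUniq.Fus

open Cfsg.Agent.HeUniq.Model

/-- how many `i < n` satisfy `f` -/
def cnt (f : ℕ → Bool) (n : ℕ) : ℕ := Nat.rec 0 (fun i r => bif f i then Nat.succ r else r) n

/-- the list of values at the `i < n` satisfying `f` -/
def gather (f : ℕ → Bool) (g : ℕ → ℕ) (n : ℕ) : List ℕ :=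
  Nat.rec [] (fun i r => bif f i then g i :: r else r) n

/-- the place of an invertible block -/
def lOf (M : ℕ) : ℕ := Nat.mod (Nat.shiftRight placePack (Nat.mul 8 M)) 256

/-- the number of an element -/
def idxC (a : ℕ) : ℕ := 128 * lOf (fM a) + 64 * fC a + 8 * fP a + fU a

/-- the numbering undoes the list -/
def idxOK (i : ℕ) : Bool := Nat.beq (idxC (cd i)) i

/-- a packed involution entry -/
def ivEnt (j : ℕ) : ℕ :=
  Nat.mod (Nat.shiftRight (ivPack (Nat.div j 64)) (Nat.mul 33 (Nat.mod j 64))) 8589934592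

/-- the code of an entry -/
def ivCode (j : ℕ) : ℕ := cd (Nat.mod (ivEnt j) 32768)

/-- the class of an entry -/
def ivCls (j : ℕ) : ℕ := Nat.mod (Nat.shiftRight (ivEnt j) 15) 8

/-- the witness of an entry -/
def ivWit (j : ℕ) : ℕ := cd (Nat.shiftRight (ivEnt j) 18)

/-- the last entry not above `a` -/
def pos (a : ℕ) : ℕ :=
  [512, 256, 128, 64, 32, 16, 8, 4, 2, 1].foldl
    (fun lo s => bif Nat.blt (lo + s) 575 && Nat.ble (ivCode (lo + s)) a then lo + s else lo) 0

/-- the class of a code, eight for a non-involution -/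
def cls (a : ℕ) : ℕ := bif Nat.beq (ivCode (pos a)) a then ivCls (pos a) else 8

/-- the checks on an entry -/
def entOK (j : ℕ) : Bool :=
  Nat.blt (Nat.mod (ivEnt j) 32768) 21504 && Nat.blt (Nat.shiftRight (ivEnt j) 18) 21504 &&
    Nat.beq (mC (ivWit j) (repC (ivCls j))) (mC (ivCode j) (ivWit j)) &&
    Nat.beq (mC (ivCode j) (ivCode j)) oneC && !Nat.beq (ivCode j) oneC

/-- every involution is listed -/
def complOK (i : ℕ) : Bool :=
  !Nat.beq (mC (cd i) (cd i)) oneC || Nat.beq (cd i) oneC || Nat.blt (cls (cd i)) 8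

/-- the checks on a representative -/
def repOK (k : ℕ) : Bool := Nat.beq (cls (repC k)) k && Nat.beq (cd (idxC (repC k))) (repC k)

/-- the element commutes with a representative -/
def inH (k i : ℕ) : Bool := Nat.beq (mC (cd i) (repC k)) (mC (repC k) (cd i))

/-- the classes of an involution and its three translates, as one number -/
def rowOf (k i : ℕ) : ℕ :=
  729 * cls (cd i) + 81 * cls (mC (cd i) zC) + 9 * cls (mC (cd i) (repC k)) +
    cls (mC (mC (cd i) zC) (repC k))

/-- the rows of a representative -/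
def rowsOf (k : ℕ) : List ℕ := gather (fun i => inH k i && Nat.blt (cls (cd i)) 8) (rowOf k) 21504

/-- the square roots of the transvection -/
def sqZOf (k : ℕ) : ℕ := cnt (fun i => inH k i && Nat.beq (mC (cd i) (cd i)) zC) 21504

/-- the square roots of the representative -/
def sqROf (k : ℕ) : ℕ := cnt (fun i => inH k i && Nat.beq (mC (cd i) (cd i)) (repC k)) 21504

/-- all the checks of a representative -/
def classOK (k : ℕ) : Bool :=
  rowsOf k == rowsLit k && Nat.beq (sqZOf k) (sqZ k) && Nat.beq (sqROf k) (sqR k)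

/-- membership from a class -/
def memV (m c : ℕ) : ℕ := bif Nat.blt c 8 then (bif m.testBit c then 1 else 0) else 2

/-- the key of a row -/
def keyV (m r : ℕ) : ℕ :=
  27 * memV m (r / 729) + 9 * memV m (r / 81 % 9) + 3 * memV m (r / 9 % 9) + memV m (r % 9)

/-- the key of a row, the two translates exchanged -/
def keyW (m r : ℕ) : ℕ :=
  27 * memV m (r / 729) + 9 * memV m (r / 9 % 9) + 3 * memV m (r / 81 % 9) + memV m (r % 9)

/-- the packed witness of a set of classes -/
def killAt (m : ℕ) : ℕ := Nat.mod (Nat.shiftRight killPack (Nat.mul 59 m)) (Nat.pow 2 59)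

/-- the set of classes is impossible -/
def killOK (m : ℕ) : Bool :=
  let w := killAt m
  let c := w % 8
  m.testBit c && !Nat.beq c 5 && allB (fun d => !m.testBit d || Nat.beq d 5 ||
    !Nat.beq (sqZ c) (sqR d) || !Nat.beq (sqR c) (sqZ d) ||
    (let k := Nat.mod (Nat.shiftRight w (3 + 7 * d)) 128
     !Nat.beq ((rowsLit c).countP fun r => Nat.beq (keyW m r) k)
       ((rowsLit d).countP fun r => Nat.beq (keyV m r) k))) 8

/-- a possible set of classes is one of seven -/
def survOK (m : ℕ) : Bool :=
  !m.testBit 5 || ([32, 48, 96, 113, 115, 121, 123].any fun x => Nat.beq x m) || killOK m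

end Cfsg.Agent.HeUniq.Fus
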