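import Cfsg.Agent.Lib.HeUniq.Fus.Classes

/-! The two abelian normal subgroups of order sixteen of the centraliser, on codes. -/

set_option autoImplicit false
set_option maxRecDepth 100000
set_option Elab.async false

namespace Cfsg.Agent.HeUniq.Fus

open Cfsg.Agent.HeUniq.Model

/-- The subgroup of order sixteen of a half. -/
def sideL : ℕ → List ℕ
  | 4 => [17043521, 17043523, 17043525, 17043527, 17043529, 17043531, 17043533, 17043535, 17043537, 17043539,
      17043541, 17043543, 17043545, 17043547, 17043549, 17043551]
  | _ => [17043521, 17043537, 17044033, 17044049, 17059905, 17059921, 17060417, 17060433, 17567809, 17567825,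
      17568321, 17568337, 17584193, 17584209, 17584705, 17584721]

/-- A second element of a half. -/
def sideB : ℕ → ℕ
  | 4 => 17043525
  | _ => 17059905

/-- The subgroup checks. -/
def sideOK (k : ℕ) : Bool :=
  (sideL k).all (fun a => Nat.beq a oneC || Nat.blt (cls a) 8) &&
    (sideL k).any (fun a => Nat.beq a oneC) &&
    (sideL k).all (fun a => Nat.beq (mC a a) oneC) &&
    (sideL k).all (fun a => (sideL k).all fun b => Nat.beq (mC a b) (mC b a) &&
      (sideL k).any fun c => Nat.beq c (mC a b)) &&
    allB (fun j => !(Nat.beq (ivCls j) 5 || Nat.beq (ivCls j) k) ||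
      (sideL k).any fun c => Nat.beq c (ivCode j)) 575 &&
    (sideL k).all (fun a => Nat.beq a oneC || Nat.beq (cls a) 5 || Nat.beq (cls a) k) &&
    (sideL k).any (fun a => Nat.beq a (repC k)) && (sideL k).any (fun a => Nat.beq a (sideB k)) &&
    Nat.beq (cls (sideB k)) k && !Nat.beq (sideB k) (repC k) && !Nat.beq (sideB k) (mC zC (repC k)) &&
    Nat.beq (cls (mC (sideB k) (repC k))) k

theorem side4_ok : sideOK 4 = true := by decide +kernel

theorem side6_ok : sideOK 6 = true := by decide +kernel

/-- The conjugate of a representative stays in the half. -/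
def sideConj (k i : ℕ) : Bool :=
  let a := cd i
  let p := mC a (repC k)
  let c := mC p (invC a)
  (sideL k).any (fun x => Nat.beq x c) && Nat.beq (mC c a) p

theorem conj4a_ok : allB (sideConj 4) 10752 = true := by decide +kernel

theorem conj4b_ok : allB (fun i => sideConj 4 (10752 + i)) 10752 = true := by decide +kernel

theorem conj6a_ok : allB (sideConj 6) 10752 = true := by decide +kernel

theorem conj6b_ok : allB (fun i => sideConj 6 (10752 + i)) 10752 = true := by decide +kernel

/-- No class outside the halves keeps a product with the transvection in a pattern. -/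
def outOK (m : ℕ) : Bool :=
  allB (fun j => !m.testBit j || Nat.beq j 4 || Nat.beq j 5 || Nat.beq j 6 ||
    (Nat.blt (cls (mC (repC j) zC)) 8 && !m.testBit (cls (mC (repC j) zC)))) 8

theorem out_ok : (outOK 48 && outOK 96 && outOK 113) = true := by decide +kernel

end Cfsg.Agent.HeUniq.Fus
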