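import Cfsg.Agent.Lib.HeUniq.Fus.Pattern
import Cfsg.Agent.Lib.HeUniq.Fus.PureChk
import Mathlib.GroupTheory.Subgroup.Centralizer

/-! The fusion patterns with two classes inside the abelian normal subgroups, excluded by purity. -/

set_option autoImplicit false

namespace Cfsg.Agent.HeUniq.Fus

open Cfsg.Agent.HeUniq.Model Subgroup

/-- The facts carried by the checks of a half. -/
theorem side_facts {k : ℕ} (hk : k = 4 ∨ k = 6) :
    (∀ a ∈ sideL k, InC a ∧ mC a a = oneC ∧ (a = oneC ∨ cls a = 5 ∨ cls a = k)) ∧ oneC ∈ sideL k ∧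
      (∀ a ∈ sideL k, ∀ b ∈ sideL k, mC a b = mC b a ∧ mC a b ∈ sideL k) ∧
      (∀ a, cls a < 8 → (cls a = 5 ∨ cls a = k) → a ∈ sideL k) ∧ repC k ∈ sideL k ∧
      (sideB k ∈ sideL k ∧ cls (sideB k) = k ∧ sideB k ≠ repC k ∧ sideB k ≠ mC zC (repC k) ∧
        cls (mC (sideB k) (repC k)) = k) ∧
      (∀ i < 21504, ∃ c ∈ sideL k, mC c (cd i) = mC (cd i) (repC k)) := by
  have h : sideOK k = true ∧ ∀ i < 21504, sideConj k i = true := by
    rcases hk with rfl | rfl
    · exact ⟨side4_ok, fun i hi => (Nat.lt_or_ge i 10752).elim (allB_spec conj4a_ok i)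
        fun h => allB_chunk conj4b_ok h (by omega)⟩
    · exact ⟨side6_ok, fun i hi => (Nat.lt_or_ge i 10752).elim (allB_spec conj6a_ok i)
        fun h => allB_chunk conj6b_ok h (by omega)⟩
  obtain ⟨h, hc⟩ := h
  simp only [sideOK, Bool.and_eq_true, List.all_eq_true, List.any_eq_true, Bool.or_eq_true, Nat.beq_eq,
    Bool.not_eq_true', Nat.blt_eq] at h
  obtain ⟨⟨⟨⟨⟨⟨⟨⟨⟨⟨⟨hin, hone⟩, hsq⟩, hmul⟩, hall⟩, hcls⟩, hrep⟩, hB⟩, hBc⟩, hBr⟩, hBz⟩, hBp⟩ := h
  have mem : ∀ {x y : ℕ}, (∃ c ∈ sideL k, c = x) → x = y → y ∈ sideL k := fun {x y} ⟨c, hc, e⟩ e' => e' ▸ e ▸ hc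
  refine ⟨fun a ha => ⟨?_, hsq a ha, ?_⟩, mem hone rfl, fun a ha b hb => ⟨(hmul a ha b hb).1, mem (hmul a ha b hb).2 rfl⟩,
    fun a ha hak => ?_, mem hrep rfl, ⟨mem hB rfl, hBc, fun e => ?_, fun e => ?_, hBp⟩, fun i hi => ?_⟩
  · rcases hin a ha with e | e
    · exact e ▸ inC_one
    · exact (cls_spec e).1
  · rcases hcls a ha with (e | e) | e
    exacts [Or.inl e, Or.inr (Or.inl e), Or.inr (Or.inr e)]
  · unfold cls at ha hak
    cases hb : Nat.beq (ivCode (pos a)) a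
    · rw [hb] at ha; simp at ha
    · rw [hb, cond_true] at hak
      rw [Nat.beq_eq] at hb
      have := allB_spec hall (pos a) (rep_cd.pos_lt a)
      simp only [Bool.or_eq_true, Bool.not_eq_true', Bool.or_eq_false_iff, List.any_eq_true, Nat.beq_eq] at this
      rcases this with ⟨h5, hk'⟩ | h'
      · rcases hak with e | e
        · rw [e, Nat.beq_refl] at h5; exact Bool.noConfusion h5
        · rw [e, Nat.beq_refl] at hk'; exact Bool.noConfusion hk'
      · exact mem h' hb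
  · rw [e, Nat.beq_refl] at hBr; exact Bool.noConfusion hBr
  · rw [e, Nat.beq_refl] at hBz; exact Bool.noConfusion hBz
  · have := hc i hi
    simp only [sideConj, Bool.and_eq_true, List.any_eq_true, Nat.beq_eq] at this
    exact ⟨_, mem this.1 rfl, this.2⟩

variable {G : Type*} [Group G] {t : G} (F : Frame G t)

/-- The elements of classes five and `k` lie in every subgroup above the abelian normal ones. -/
theorem side_mem (R : Subgroup (centralizer ({t} : Set G)))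
    (hR : ∀ N : Subgroup (centralizer ({t} : Set G)), N.Normal → IsMulCommutative N → N ≤ R)
    {k : ℕ} (hk : k = 4 ∨ k = 6) {a : ℕ} (ha : a ∈ sideL k) {x : centralizer ({t} : Set G)}
    (hx : (x : G) = F.f a) : x ∈ R := by
  obtain ⟨hin, hone, hmul, -, -, -, hconj⟩ := side_facts hk
  let N : Subgroup (centralizer ({t} : Set G)) :=
    { carrier := {x | ∃ a ∈ sideL k, F.f a = (x : G)}
      one_mem' := ⟨oneC, hone, by rw [F.one]; rfl⟩
      mul_mem' := by
        rintro x y ⟨a, ha, hax⟩ ⟨b, hb, hby⟩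
        exact ⟨mC a b, (hmul a ha b hb).2, by rw [F.mul (hin a ha).1 (hin b hb).1, hax, hby]; rfl⟩
      inv_mem' := by
        rintro x ⟨a, ha, hax⟩
        refine ⟨a, ha, ?_⟩
        rw [Subgroup.coe_inv, ← hax, eq_inv_iff_mul_eq_one, ← F.mul (hin a ha).1 (hin a ha).1, (hin a ha).2.1, F.one] }
  have hNn : N.Normal := by
    refine ⟨?_⟩
    rintro x ⟨a, ha, hax⟩ g
    obtain ⟨ha', -, hcl⟩ := hin a ha
    by_cases hfix : (g : G) * x = x * g
    · refine ⟨a, ha, hax.trans ?_⟩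
      show (x : G) = g * x * (g : G)⁻¹
      rw [hfix, mul_inv_cancel_right]
    · have hck : cls a = k := by
        rcases hcl with e | e | e
        · rw [e, F.one] at hax; exact absurd (by rw [← hax, one_mul, mul_one]) hfix
        · obtain ⟨h, hh, hh'⟩ := to_rep F (show cls a < 8 by omega)
          rw [e, repz, F.fz] at hh'
          have : F.f a = t := by
            have e1 : F.f a = h⁻¹ * t * h :=
              calc F.f a = h⁻¹ * (h * F.f a * h⁻¹) * h := by group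
                _ = h⁻¹ * t * h := by rw [hh']
            rw [e1, mul_assoc, ← hh, inv_mul_cancel_left]
          exact absurd (hax ▸ this.symm ▸ mem_centralizer_singleton_iff.1 g.2) hfix
        · exact e
      obtain ⟨h, hh, hh'⟩ := to_rep F (show cls a < 8 by omega)
      rw [hck] at hh'
      obtain ⟨w, ⟨i, hi, rfl⟩, hw⟩ := F.surj ((g : G) * h⁻¹) (by
        have e1 : h⁻¹ * t = t * h⁻¹ := by rw [inv_mul_eq_iff_eq_mul, ← mul_assoc, hh, mul_inv_cancel_right]
        rw [mul_assoc, e1, ← mul_assoc, mem_centralizer_singleton_iff.1 g.2, mul_assoc])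
      obtain ⟨c, hc, hce⟩ := hconj i hi
      refine ⟨c, hc, ?_⟩
      have h2 := congrArg F.f hce
      rw [F.mul (hin c hc).1 (inC_cd hi), F.mul (inC_cd hi) (rep_cd (by omega)).1, hw, ← hh', hax] at h2
      show _ = (g : G) * x * (g : G)⁻¹
      calc F.f c = F.f c * ((g : G) * h⁻¹) * (h * (g : G)⁻¹) := by group
        _ = (g : G) * x * (g : G)⁻¹ := by rw [h2]; group
  refine hR N hNn ⟨⟨?_⟩⟩ ⟨a, ha, hx.symm⟩
  rintro ⟨x, a, ha, hax⟩ ⟨y, b, hb, hby⟩
  refine Subtype.ext (Subtype.ext ?_)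
  show (x : G) * y = y * x
  rw [← hax, ← hby, ← F.mul (hin a ha).1 (hin b hb).1, ← F.mul (hin b hb).1 (hin a ha).1, (hmul a ha b hb).1]

/-- **Purity leaves none of the patterns 48, 96, 113.** -/
theorem not_mask_pure (R : Subgroup (centralizer ({t} : Set G)))
    (hR : ∀ N : Subgroup (centralizer ({t} : Set G)), N.Normal → IsMulCommutative N → N ≤ R)
    (hP : ∀ a b y : centralizer ({t} : Set G), a ∈ R → b ∈ R → IsConj t (a : G) → IsConj t (b : G) →
      (a : G) ≠ t → (b : G) ≠ t → (b : G) ≠ a → (b : G) ≠ t * a → ∀ g : G, g * t * g⁻¹ = a →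
      (y : G) = g⁻¹ * b * g → y ∉ R)
    (hm : mask F = 48 ∨ mask F = 96 ∨ mask F = 113) : False := by
  obtain ⟨k, hk, hbit⟩ : ∃ k, (k = 4 ∨ k = 6) ∧ (mask F).testBit k = true := by
    rcases hm with e | e | e <;> rw [e]
    exacts [⟨4, .inl rfl, rfl⟩, ⟨6, .inr rfl, rfl⟩, ⟨4, .inl rfl, rfl⟩]
  have hout : outOK (mask F) = true := by
    have := out_ok
    simp only [Bool.and_eq_true] at this
    rcases hm with e | e | e <;> rw [e]
    exacts [this.1.1, this.1.2, this.2]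
  have hk8 : k < 8 := by omega
  obtain ⟨hin, -, hmul, -, hrep, ⟨hBm, hBk, hBr, hBz, hBp⟩, -⟩ := side_facts hk
  obtain ⟨hrC, hrk⟩ := rep_cd hk8
  have hBC := (hin _ hBm).1
  set a : centralizer ({t} : Set G) := ⟨F.f (repC k), mem_centralizer_singleton_iff.2 (F.cent hrC)⟩ with ha
  set b : centralizer ({t} : Set G) := ⟨F.f (sideB k), mem_centralizer_singleton_iff.2 (F.cent hBC)⟩ with hb
  have hconj : ∀ {c : ℕ}, cls c = k → IsConj t (F.f c) := fun {c} e =>
    (conj_iff F (e ▸ hk8)).2 (e ▸ hbit)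
  have h5 : cls zC = 5 := by rw [← repz]; exact (rep_cd (show 5 < 8 by norm_num)).2
  have hne : ∀ {c : ℕ}, InC c → cls c = k → F.f c ≠ t := fun {c} hc e h => by
    rw [F.inj hc inC_z (h.trans F.fz.symm), h5] at e
    omega
  obtain ⟨g, hg⟩ := isConj_iff.1 (hconj hrk)
  have hgt : g * t = F.f (repC k) * g := by rw [← hg, inv_mul_cancel_right]
  have hab : F.f (sideB k) * F.f (repC k) = F.f (repC k) * F.f (sideB k) := by
    rw [← F.mul hBC hrC, ← F.mul hrC hBC, (hmul _ hBm _ hrep).1]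
  have hyt : g⁻¹ * F.f (sideB k) * g * t = g⁻¹ * (F.f (sideB k) * F.f (repC k)) * g := by
    rw [mul_assoc _ g t, hgt]; group
  have htg : t * g⁻¹ = g⁻¹ * F.f (repC k) := by rw [← hg]; group
  have hyC : g⁻¹ * F.f (sideB k) * g * t = t * (g⁻¹ * F.f (sideB k) * g) := by
    rw [hyt, hab, ← mul_assoc t, ← mul_assoc t, htg]; group
  have hyR := hP a b ⟨_, mem_centralizer_singleton_iff.2 hyC⟩
    (side_mem F R hR hk hrep rfl) (side_mem F R hR hk hBm rfl) (hconj hrk) (hconj hBk) (hne hrC hrk) (hne hBC hBk)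
    (fun h => hBr (F.inj hBC hrC h)) (fun h => hBz (F.inj hBC (inC_z.mul hrC) (by rw [F.mul inC_z hrC, F.fz]; exact h)))
    g hg rfl
  obtain ⟨d, hd, hdy⟩ := F.surj _ hyC
  have hy : IsConj t (F.f d) := hdy ▸ (hconj hBk).trans (isConj_iff.2 ⟨g⁻¹, by rw [inv_inv]⟩)
  have hd8 : cls d < 8 := by
    obtain ⟨c, hc⟩ := isConj_iff.1 hy
    refine cls_lt hd (F.inj (hd.mul hd) inC_one ?_) fun e => ?_
    · rw [F.mul hd hd, ← hc, conj_mul, sq_t F, F.one, mul_one, mul_inv_cancel]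
    · rw [e, F.one, conj_eq_one_iff] at hc; exact t_ne_one F hc
  have hdm := (conj_iff F hd8).1 hy
  have hyR' : ∀ {j : ℕ}, (j = 4 ∨ j = 6) → cls d ≠ 5 ∧ cls d ≠ j := fun {j} hj => not_or.1 fun e =>
    hyR (side_mem F R hR hj ((side_facts hj).2.2.2.1 d hd8 e) hdy.symm)
  have := allB_spec hout (cls d) hd8
  simp only [hdm, Bool.not_true, Bool.false_or, Bool.or_eq_true, Bool.and_eq_true, Nat.beq_eq, Nat.blt_eq,
    Bool.not_eq_true'] at this
  rcases this with ((e | e) | e) | ⟨hlt, hoff⟩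
  · exact (hyR' (.inl rfl)).2 e
  · exact (hyR' (.inl rfl)).1 e
  · exact (hyR' (.inr rfl)).2 e
  obtain ⟨h, hh, hh'⟩ := to_rep F hd8
  have hyt' : IsConj t (F.f (mC (repC (cls d)) zC)) := by
    have e1 : F.f (mC (repC (cls d)) zC) = h * (g⁻¹ * F.f (sideB k) * g * t) * h⁻¹ := by
      have e2 : t * h⁻¹ = h⁻¹ * t := by rw [eq_inv_mul_iff_mul_eq, ← mul_assoc, hh, mul_inv_cancel_right]
      rw [F.mul (rep_cd hd8).1 inC_z, F.fz, ← hh', hdy]
      simp only [mul_assoc]
      rw [e2]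
    rw [e1, hyt, ← F.mul hBC hrC]
    exact (hconj hBp).trans (isConj_iff.2 ⟨h * g⁻¹, by group⟩)
  rw [(conj_iff F hlt).1 hyt'] at hoff
  exact Bool.noConfusion hoff

end Cfsg.Agent.HeUniq.Fus
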